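import Groth.Agent.H11Strict.BlowProj
import Groth.Agent.H11Sym.BundleAmple
import Groth.Agent.H11Proj.ProjTransfer
import Groth.Agent.H11Proj.ProjectiveProps

/-!
# The exceptional module of a blow-up is relatively ample
-/

set_option autoImplicit false
set_option linter.style.haveILetI false
set_option backward.isDefEq.respectTransparency false
set_option maxHeartbeats 1000000

universe u

open CategoryTheory CategoryTheory.Limits AlgebraicGeometry TopologicalSpace Opposite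
open Groth.Agent.H26Blow Groth.Agent.H11Tilde Groth.Agent.H11Proj Groth.Agent.H11Ample
open Groth.Agent.H11Strict.BlowProj

namespace Groth.Agent.H8YBlow

variable {X X' : Scheme.{u}}

/-- Ampleness over an open from sections with affine loci of generation. -/
theorem ampleOn_of_genAt {L : X.Modules} (hL : PicF.IsInvertible L) {U : X.Opens} (hU : IsCompact (U : Set X))
    (h : ∀ x ∈ U, ∃ s : Γ(L, U), x ∈ genAt L s ∧ IsAffineOpen (genAt L s)) : AmpleOn L U := by
  haveI : CompactSpace U.toScheme := isCompact_iff_compactSpace.1 hU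
  let M := (Scheme.Modules.pullback U.ι).obj L
  have hM : PicF.IsInvertible M := isInvertible_pullback U.ι hL
  refine isAmple_of_gen_isQuasiAffine hM fun x => ?_
  obtain ⟨s, hxs, hs⟩ := h x.1 x.2
  have hT : (⊤ : U.toScheme.Opens) ≤ U.ι ⁻¹ᵁ U := fun y _ => y.2
  let t : Γ(M, ⊤) := resS M hT (OmegaSh.pullSect U.ι L U s)
  have ht : gen M t = U.ι ⁻¹ᵁ genAt L s := by
    rw [← H11Sym.genAt_eq_gen]
    show genAt M (resS M hT (OmegaSh.pullSect U.ι L U s)) = _
    rw [genAt_res, genAt_pullSect hL]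
    exact inf_top_eq _
  refine ⟨1, spow t 1, Nat.one_pos, ?_, ?_⟩
  · rw [gen_spow hM t 1 Nat.one_pos, ht]
    exact hxs
  · rw [gen_spow hM t 1 Nat.one_pos, ht]
    have haff : IsAffineOpen (U.ι ⁻¹ᵁ genAt L s) := by
      rw [← U.ι.isAffineOpen_iff_of_isOpenImmersion, Scheme.Hom.image_preimage_eq_opensRange_inf,
        Scheme.Opens.opensRange_ι, inf_eq_right.2 (genAt_le s)]
      exact hs
    haveI : IsAffine (U.ι ⁻¹ᵁ genAt L s).toScheme := haff
    infer_instance

variable {b : X' ⟶ X} {𝓘 : X.IdealSheafData}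

/-- The module of the exceptional divisor of a blow-up is relatively ample. -/
theorem isRelAmple_exceptional (h𝓘 : BlowUp.IsFiniteTypeIdeal 𝓘) (hb : BlowUp.IsBlowUp b 𝓘) :
    RelAmple.IsRelAmple b (O1 b 𝓘) := by
  classical
  haveI : IsProper b := H11Proj.isProper_of_isProjective (H11Strict.BlowProj.isProjective (b := b) h𝓘 hb)
  have hinv := H29Blow.isInvertible_of_isEffCartierIdeal _ hb.1
  refine isRelAmple_iff.2 ⟨inferInstance, fun V hV => ampleOn_of_genAt hinv (b.isCompact_preimage hV.isCompact)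
    fun y hy => ?_⟩
  obtain ⟨n, a, ha⟩ := Submodule.fg_iff_exists_fin_generating_family.1 (h𝓘 ⟨V, hV⟩)
  have ham : ∀ m, a m ∈ 𝓘.ideal ⟨V, hV⟩ := fun m => ha.le (Ideal.subset_span ⟨m, rfl⟩)
  choose s hs using fun m => exists_sect b 𝓘 ⟨V, hV⟩ (a m) (ham m)
  obtain ⟨k, _, hk, hr⟩ := exists_proj_chart hb ⟨V, hV⟩
  have hres : ∀ m, X.presheaf.map (homOfLE (le_refl V)).op (a m) = a m := fun m => by simp
  have hspan : 𝓘.ideal ⟨V, hV⟩ = Ideal.span (Set.range fun m => a m) := ha.symm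
  have hcov : ∀ z ∈ b ⁻¹ᵁ V, ∃ m, z ∈ cO k ⟨_, ham m⟩ := fun z hz =>
    exists_mem_cO k (fun m => ⟨_, ham m⟩) hspan (hr.ge hz)
  have hg : ∀ m, genAt (O1 b 𝓘) (s m) = cO k ⟨_, ham m⟩ := fun m => by
    refine le_antisymm (fun z hz => ?_) (cO_le_genAt k hk _ (le_refl V) (a m) (hres m).symm (hs m))
    obtain ⟨m', hm'⟩ := hcov z (genAt_le (s m) hz)
    have h := inf_genAt_le k hk ⟨_, ham m'⟩ (le_refl V) (a m) ((hres m).symm ▸ ham m) (hs m) ⟨hm', hz⟩
    simp only [hres] at h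
    exact h
  obtain ⟨m, hm⟩ := hcov y hy
  exact ⟨s m, (hg m).ge hm, (hg m).symm ▸ cO_affine k _⟩

/-- Away from the centre the exceptional module is generated by one. -/
theorem exists_isGen_exceptional (hb : BlowUp.IsBlowUp b 𝓘) (U : X.Opens)
    (hU : Disjoint (𝓘.support : Set X) (U : Set X)) :
    ∃ e : Γ(O1 b 𝓘, b ⁻¹ᵁ U), IsGen (O1 b 𝓘) e := by
  have htop : ∀ (W : X'.affineOpens), W.1 ≤ b ⁻¹ᵁ U → (BlowUp.exceptional b 𝓘).ideal W = ⊤ := fun W hW => by
    have h1 : (BlowUp.exceptional b 𝓘).comap W.1.ι = ⊤ :=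
      H29Blow.comap_eq_top_of_range_disjoint W.1.ι _ fun z hz => by
        rw [show BlowUp.exceptional b 𝓘 = 𝓘.comap b from rfl, Scheme.IdealSheafData.support_comap] at hz
        exact Set.disjoint_left.1 hU hz (hW z.2)
    haveI : IsAffine W.1.toScheme := W.2
    have h2 := H29Blow.ideal_comap_ι (BlowUp.exceptional b 𝓘) W
    rw [h1, Scheme.IdealSheafData.ideal_top, Pi.top_apply] at h2
    have h3 := Ideal.comap_map_of_bijective W.1.topIso.inv.hom (ConcreteCategory.bijective_of_isIso W.1.topIso.inv)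
      (I := (BlowUp.exceptional b 𝓘).ideal W)
    rw [← h3, ← h2, Ideal.comap_top]
  obtain ⟨e, he⟩ := H17.GrBase.exists_idealSect_of_germ (BlowUp.exceptional b 𝓘) (b ⁻¹ᵁ U) 1 fun p hp => by
    obtain ⟨W, hW, hpW, hle⟩ := exists_isAffineOpen_mem_and_subset (U := b ⁻¹ᵁ U) hp
    rw [H29Omega.range_idealStalk (BlowUp.exceptional b 𝓘) p ⟨W, hW⟩ hpW, htop ⟨W, hW⟩ hle, Ideal.map_top]
    exact Submodule.mem_top
  refine ⟨e, fun y hy => ?_⟩
  obtain ⟨W, hW, hyW, hle₀⟩ := exists_isAffineOpen_mem_and_subset (U := b ⁻¹ᵁ U) hy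
  have hle : W ≤ b ⁻¹ᵁ U := hle₀
  have h1 : OmegaSh.idealSect (BlowUp.exceptional b 𝓘) W ((O1 b 𝓘).presheaf.map (homOfLE hle).op e) = 1 := by
    rw [H29Blow.idealSect_res, he, map_one]
  have hg : IsGen (O1 b 𝓘) ((O1 b 𝓘).presheaf.map (homOfLE hle).op e) :=
    isGen_of_span hW _ (by rw [h1]; exact one_mem _) (by rw [h1, htop ⟨W, hW⟩ hle, Ideal.span_singleton_one])
  have h2 := hg y hyW
  rwa [TopCat.Presheaf.germ_res_apply] at h2

end Groth.Agent.H8YBlow
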