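import Groth.Agent.H17.Ample.OpenInProjective
import Groth.Agent.H11Sym.BundleAmple
import Groth.Agent.H11Sym.BundleUP2
import Groth.Agent.H11Sym.Emb
import Groth.Agent.H10Coh.BaseChange
import Groth.Agent.H10Coh.Proper
import Groth.Agent.H8Props.QCohExtend

/-!
# An affine scheme of finite type over the base as the complement of a relatively ample divisor
-/

set_option autoImplicit false
set_option linter.style.haveILetI false
set_option backward.isDefEq.respectTransparency false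
set_option maxHeartbeats 2000000

noncomputable section

universe u

open CategoryTheory CategoryTheory.Limits AlgebraicGeometry Opposite TopologicalSpace
open Groth.Agent.H11Tilde Groth.Agent.H11Ample Groth.Agent.H11Proj Groth.Agent.H11Sym

namespace Groth.Agent.H8YBlow

variable {X A : Scheme.{u}}

theorem genAt_one (U : A.Opens) {s : Γ(Coh.structureModule A, U)}
    (hs : IsGen (Coh.structureModule A) s) : genAt (Coh.structureModule A) s = U :=
  le_antisymm (genAt_le s) (le_genAt s le_rfl (by rw [resS, H10Coh.mres_self]; exact hs))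

theorem exists_affine_closure (π : A ⟶ X) [IsAffineHom π] [LocallyOfFiniteType π] [CompactSpace X]
    [QuasiSeparatedSpace X] :
    ∃ (P : Scheme.{u}) (p : P ⟶ X) (j : A ⟶ P) (K : P.Modules) (σ : Γ(K, ⊤))
      (_ : IsOpenImmersion j), IsProper p ∧ j ≫ p = π ∧ RelAmple.IsRelAmple p K ∧
      gen K σ = j.opensRange := by
  classical
  let O := Coh.structureModule A
  let E₀ := (Scheme.Modules.pushforward π).obj O
  haveI hOq : O.IsQuasicoherent := (H10Coh.isCoh_structureModule' A).1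
  have hE₀ : Coh.IsQCoh E₀ := H10Coh.isQuasicoherent_pushforward_of_isAffineHom π O
  -- algebra generators over a finite affine cover
  choose W hW hxW using fun x : X => H11Ample.exists_isAffineOpen_mem x
  obtain ⟨T, hT⟩ := CompactSpace.elim_nhds_subcover (fun x => (W x : Set X))
    (fun x => (W x).isOpen.mem_nhds (hxW x))
  have hfin : ∀ x : X, ∃ B : Finset Γ(A, π ⁻¹ᵁ W x),
      Subring.closure (Set.range (π.app (W x)) ∪ (B : Set Γ(A, π ⁻¹ᵁ W x))) = ⊤ := fun x => by
    have h := LocallyOfFiniteType.finiteType_appLE π (hW x) ((hW x).preimage π) le_rfl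
    algebraize [(π.appLE (W x) (π ⁻¹ᵁ W x) le_rfl).hom]
    obtain ⟨B, hB⟩ := ‹Algebra.FiniteType Γ(X, W x) Γ(A, π ⁻¹ᵁ W x)›.out
    refine ⟨B, eq_top_iff.2 fun z _ => ?_⟩
    have hz : z ∈ (Algebra.adjoin Γ(X, W x) (B : Set Γ(A, π ⁻¹ᵁ W x))) := hB ▸ Algebra.mem_top
    rw [← Subalgebra.mem_toSubring, Algebra.adjoin_eq_ring_closure] at hz
    refine Subring.closure_mono (Set.union_subset_union_left _ ?_) hz
    rintro _ ⟨r, rfl⟩
    exact ⟨r, by rw [Scheme.Hom.app_eq_appLE]; rfl⟩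
  choose B hB using hfin
  let l : List (Σ U : X.affineOpens, Γ(E₀, U.1)) :=
    T.toList.flatMap fun x => (B x).toList.map fun b => ⟨⟨W x, hW x⟩, b⟩
  obtain ⟨G₀, i, hG₀q, hG₀f, hmem⟩ := H17.OpenInProj.exists_ft_mem E₀ hE₀ l
  haveI : G₀.IsQuasicoherent := hG₀q
  haveI hOXq : (Coh.structureModule X).IsQuasicoherent := (H10Coh.isCoh_structureModule' X).1
  let G := G₀ ⊞ Coh.structureModule X
  have hGq : Coh.IsQCoh G := H8Props.QCohExtend.isQuasicoherent_biprod _ _
  have hGf : CohB1.IsFT G := H17.OpenInProj.isFT_biprod hG₀f (H10Coh.isCoh_structureModule' X).2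
  let g₁ : Γ(E₀, ⊤) := one (π ⁻¹ᵁ ⊤ : A.Opens)
  let u : G ⟶ E₀ := biprod.desc i (homOfGlobal E₀ g₁)
  let m₀ : Γ(G, ⊤) := (biprod.inr : Coh.structureModule X ⟶ G).app ⊤ (one (⊤ : X.Opens))
  let mU : ∀ U : X.Opens, Γ(G, U) := fun U => G.presheaf.map (homOfLE (le_top : U ≤ ⊤)).op m₀
  have hu₀ : u.app ⊤ m₀ = g₁ := by
    refine (congr($(congrArg (fun φ : Coh.structureModule X ⟶ E₀ => φ.app ⊤)
      (biprod.inr_desc i (homOfGlobal E₀ g₁))) (one (⊤ : X.Opens)))).trans ?_
    rw [homOfGlobal_app]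
    erw [H10Coh.mres_self, one_smul]
  have huU : ∀ U : X.Opens, uSec u (mU U) = resS O (π.preimage_mono le_top) g₁ := fun U => by
    rw [uSec_res u le_top m₀]
    exact congrArg _ hu₀
  have hgenU : ∀ U : X.Opens, IsGen O (uSec u (mU U)) := fun U => by
    rw [huU U]
    exact (isGen_one (π ⁻¹ᵁ ⊤)).res _
  have hgmax : ∀ {U : X.Opens} (hU : IsAffineOpen U), (gMax u hU (mU U)).V = π ⁻¹ᵁ U := fun {U} hU =>
    genAt_one _ (hgenU U)
  have hsp : Spans u := fun a => by
    obtain ⟨U, hU, hxU⟩ := H11Ample.exists_isAffineOpen_mem (π a)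
    exact ⟨gMax u hU (mU U), (hgmax hU).ge hxU⟩
  obtain ⟨𝒯, jT, hT'⟩ := exists_isGrSymAlg G hGq
  obtain ⟨P, p, chart, hP⟩ := exists_isRelProj 𝒯
  obtain ⟨O1, lam, hO⟩ := exists_isRelTwist hP 1
  obtain ⟨r, hr, τ, hτ⟩ := exists_toBundle hGq hT' hP hO hsp
  have hproj : RelProj.IsProjective p :=
    ⟨𝒯, P, p, chart, Iso.refl P, H11Sym.isGenDegOne hGq hT', H11Sym.isFTDeg_one hGq hGf hT', hP, Category.id_comp p⟩
  haveI : IsProper p := isProper_of_isProjective hproj
  have hO1 : PicF.IsInvertible O1 := isInvertible_twist_one hGq hT' hP hO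
  obtain ⟨φ, hφ⟩ := exists_canon hGq hT' hP hO
  let σ : Γ(O1, ⊤) := φ.app ⊤ m₀
  -- the open where `σ` generates
  let D := gen O1 σ
  have hD : ∀ {U : X.Opens} (hU : IsAffineOpen U),
      D ⊓ p ⁻¹ᵁ U = dOpen (𝒯 := 𝒯) (j := jT) (chart := chart) hU (mU U) := fun {U} hU => by
    rw [← genAt_ks hGq hT' hO hU, ← hφ U hU]
    have e : φ.app U (mU U) = resS O1 (p.preimage_mono le_top) σ := app_map_apply φ le_top m₀
    show gen O1 σ ⊓ p ⁻¹ᵁ U = genAt O1 (φ.app U (mU U))
    rw [e, genAt_res, ← genAt_eq_gen σ]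
  have hrD : ∀ a, r a ∈ D := fun a => by
    obtain ⟨U, hU, hxU⟩ := H11Ample.exists_isAffineOpen_mem (π a)
    have h := (preimage_dOpen_of_match hGq hT' hP hO hr hτ hU (mU U)).ge ((hgmax hU).ge hxU)
    exact ((hD hU).ge h).1
  let r' : A ⟶ D.toScheme := IsOpenImmersion.lift D.ι r (by
    rintro _ ⟨a, rfl⟩
    rw [Scheme.Opens.range_ι]
    exact hrD a)
  have hr'r : r' ≫ D.ι = r := IsOpenImmersion.lift_fac _ _ _
  haveI : IsClosedImmersion r' := by
    refine IsZariskiLocalAtTarget.of_iSup_eq_top (fun x : T => D.ι ⁻¹ᵁ p ⁻¹ᵁ W x.1) ?_ fun x => ?_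
    · refine eq_top_iff.2 fun z _ => ?_
      obtain ⟨x, hx, hz⟩ := Set.mem_iUnion₂.1 (hT.ge (Set.mem_univ (p (D.ι z))))
      exact Opens.mem_iSup.2 ⟨⟨x, hx⟩, hz⟩
    · let U := W x.1
      have hU : IsAffineOpen U := hW x.1
      have hdA := isAffineOpen_dOpen (chart := chart) hT' hU (mU U)
      have hpre : r ⁻¹ᵁ dOpen (𝒯 := 𝒯) (j := jT) (chart := chart) hU (mU U) = π ⁻¹ᵁ U :=
        (preimage_dOpen_of_match hGq hT' hP hO hr hτ hU (mU U)).trans (hgmax hU)
      have hd : IsClosedImmersion (r ∣_ dOpen (𝒯 := 𝒯) (j := jT) (chart := chart) hU (mU U)) := by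
        refine (isClosedImmersion_morphismRestrict_iff r hdA).2 ⟨hpre ▸ hU.preimage π, ?_⟩
        have hr' := chartMor_of_match hGq hT' hP hO hr hτ (gMax u hU (mU U))
        have htop : (gMax u hU (mU U)).ratioRing = ⊤ := by
          refine eq_top_iff.2 ?_
          intro z _
          let eW := A.presheaf.map (homOfLE (hgmax hU).le).op
          have hsub : (Subring.closure (Set.range (π.app U) ∪ (B x.1 : Set Γ(A, π ⁻¹ᵁ U)))).map eW.hom ≤
              (gMax u hU (mU U)).ratioRing := by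
            rw [RingHom.map_closure]
            refine Subring.closure_le.2 ?_
            rintro _ ⟨y, ⟨c, rfl⟩ | hy, rfl⟩
            · refine Subring.subset_closure (Or.inl ⟨c, ?_⟩)
              show π.appLE U _ _ c = (π.app U ≫ eW) c
              rw [Scheme.Hom.app_eq_appLE, Scheme.Hom.appLE_map]
            · obtain ⟨n, hn⟩ := hmem ⟨⟨U, hU⟩, y⟩ (List.mem_flatMap.2
                ⟨x.1, Finset.mem_toList.2 x.2, List.mem_map.2 ⟨y, Finset.mem_toList.2 hy, rfl⟩⟩)
              refine Subring.subset_closure (Or.inr ⟨(biprod.inl : G₀ ⟶ G).app U n, ?_⟩)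
              have hun : uSec u ((biprod.inl : G₀ ⟶ G).app U n) = y :=
                (congr($(congrArg (fun φ : G₀ ⟶ E₀ => φ.app U)
                  (biprod.inl_desc i (homOfGlobal E₀ g₁))) n)).trans hn
              show eW y • resS O _ (uSec u (mU U)) = resS O _ (uSec u ((biprod.inl : G₀ ⟶ G).app U n))
              rw [hun, huU U, resS_resS]
              show eW y * A.presheaf.map _ 1 = _
              rw [map_one, mul_one]
              rfl
          refine hsub ⟨A.presheaf.map (homOfLE (hgmax hU).ge).op z, ?_, ?_⟩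
          · rw [hB x.1]; exact Subring.mem_top _
          · show (A.presheaf.map (homOfLE (hgmax hU).ge).op ≫ A.presheaf.map (homOfLE (hgmax hU).le).op) z = z
            rw [← Functor.map_comp, ← op_comp, Subsingleton.elim (homOfLE (hgmax hU).le ≫ homOfLE (hgmax hU).ge) (𝟙 _),
              op_id, CategoryTheory.Functor.map_id]
            rfl
        intro z
        obtain ⟨w, hw⟩ := (GenPt.mem_range_appLE hGq hT' hr'
          (A.presheaf.map (homOfLE ((hgmax hU).le.trans hpre.ge)).op z)).2 (htop ▸ Subring.mem_top _)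
        refine ⟨w, ?_⟩
        have hinj : Function.Injective
            (A.presheaf.map (homOfLE ((hgmax hU).le.trans hpre.ge)).op) := by
          have : IsIso (homOfLE ((hgmax hU).le.trans hpre.ge)) :=
            ⟨homOfLE (hpre.le.trans (hgmax hU).ge), Subsingleton.elim _ _, Subsingleton.elim _ _⟩
          exact (ConcreteCategory.bijective_of_isIso (A.presheaf.map _)).1
        refine hinj (Eq.trans ?_ hw)
        rw [← CategoryTheory.comp_apply (r.app _), Scheme.Hom.app_eq_appLE, Scheme.Hom.appLE_map]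
        rfl
      have hi : D.ι ''ᵁ (D.ι ⁻¹ᵁ p ⁻¹ᵁ U) = dOpen (𝒯 := 𝒯) (j := jT) (chart := chart) hU (mU U) := by
        rw [Scheme.Hom.image_preimage_eq_opensRange_inf, Scheme.Opens.opensRange_ι]
        exact hD hU
      have hp : r' ⁻¹ᵁ D.ι ⁻¹ᵁ p ⁻¹ᵁ U = r ⁻¹ᵁ dOpen (𝒯 := 𝒯) (j := jT) (chart := chart) hU (mU U) := by
        rw [← Scheme.Hom.comp_preimage, hr'r, ← hD hU]
        exact (le_antisymm (fun z hz => hz.2) (fun z hz => ⟨hrD z, hz⟩)).symm
      have e : Arrow.mk (r' ∣_ D.ι ⁻¹ᵁ p ⁻¹ᵁ U) ≅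
          Arrow.mk (r ∣_ dOpen (𝒯 := 𝒯) (j := jT) (chart := chart) hU (mU U)) :=
        Arrow.isoMk (A.isoOfEq hp) ((D.ι.isoImage _) ≪≫ P.isoOfEq hi) (by
          rw [← cancel_mono (dOpen (𝒯 := 𝒯) (j := jT) (chart := chart) hU (mU U)).ι]
          simp [hr'r])
      exact (MorphismProperty.arrow_mk_iso_iff @IsClosedImmersion e).2 hd
  haveI : IsImmersion r := hr'r ▸ inferInstance
  haveI : QuasiCompact (r ≫ p) := by rw [hr]; infer_instance
  haveI : QuasiCompact r := QuasiCompact.of_comp r p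
  let ι := r.imageι
  haveI : QuasiCompact (ι ≫ p) := inferInstance
  let K := (Scheme.Modules.pullback ι).obj O1
  refine ⟨r.image, ι ≫ p, r.toImage, K, pullTop ι σ, inferInstance, inferInstance,
    by rw [← Category.assoc, r.toImage_imageι, hr],
    isRelAmple_pullback_of_isEmbedding hGq hT' hP hO ι rfl ι.isClosedEmbedding.isEmbedding, ?_⟩
  have hg := gen_smul_pullSect ι hO1 σ (isUnit_one (M := Γ(r.image, ⊤)))
  rw [one_smul] at hg
  rw [hg]
  ext z
  show ι z ∈ D ↔ z ∈ Set.range r.toImage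
  refine ⟨fun hz => ?_, ?_⟩
  · have h1 : ι z ∈ closure (Set.range r) := by
      have h2 : ι z ∈ (r.ker.support : Set P) := (Scheme.IdealSheafData.range_subschemeι _).le ⟨z, rfl⟩
      rwa [Scheme.Hom.support_ker] at h2
    have hC : IsClosed (Set.range r') := r'.isClosedEmbedding.isClosed_range
    obtain ⟨O', hO', hO'e⟩ := isClosed_induced_iff.1 hC
    have hsub : Set.range r ⊆ O' := by
      rintro _ ⟨a, rfl⟩
      have h3 : r' a ∈ (Subtype.val : D → P) ⁻¹' O' := hO'e.ge ⟨a, rfl⟩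
      rw [← hr'r]
      exact h3
    have h4 : (⟨ι z, hz⟩ : D) ∈ Set.range r' := hO'e.le ((hO'.closure_subset_iff.2 hsub) h1)
    obtain ⟨a, ha⟩ := h4
    refine ⟨a, ι.isClosedEmbedding.injective ?_⟩
    rw [← Scheme.Hom.comp_apply, r.toImage_imageι]
    refine (congrArg (fun φ : A ⟶ P => φ a) hr'r.symm).trans ?_
    rw [Scheme.Hom.comp_apply, ha]
    rfl
  · rintro ⟨a, rfl⟩
    show ι (r.toImage a) ∈ D
    rw [← Scheme.Hom.comp_apply, r.toImage_imageι]
    exact hrD a

end Groth.Agent.H8YBlow
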