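import Groth.Agent.H11Ample.RelComp
import Groth.Agent.H11Ample.RelPullback
import Groth.Agent.H22Alg.ExtPowSES
import Groth.Agent.H17.Ample.LocalProj

/-!
# Sections trivialising a module along a morphism, and blow-ups relative to a morphism
-/

set_option autoImplicit false
set_option linter.style.haveILetI false
set_option maxHeartbeats 800000

universe u

open AlgebraicGeometry CategoryTheory Limits TopologicalSpace Opposite
open Groth.Agent.H11Ample Groth.Agent.H11Tilde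

namespace Groth.Agent.H8YBlow

variable {X Y Z : Scheme.{u}}

/-- `g` generates `L` at every point in the image of `f`. -/
def TrivAlong (f : Y ⟶ X) (L : X.Modules) : Prop :=
  ∃ g : Γ(L, ⊤), ∀ y, f y ∈ gen L g

/-- A section with invertible pullback generates along the image. -/
theorem mem_gen_of_isIso (f : Y ⟶ X) {L : X.Modules} (hL : PicF.IsInvertible L) (g : Γ(L, ⊤))
    (h : IsIso ((Scheme.Modules.pullback f).map (homOfGlobal L g))) (y : Y) : f y ∈ gen L g := by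
  have hnat := congrArg (fun φ : Coh.structureModule X ⟶ _ => φ.app ⊤ (one (⊤ : X.Opens)))
    ((Scheme.Modules.pullbackPushforwardAdjunction f).unit.naturality (homOfGlobal L g))
  have e : pullTop f g = ((Scheme.Modules.pullback f).map (homOfGlobal L g)).app ⊤
      (OmegaSh.pullSect f (Coh.structureModule X) ⊤ (one (⊤ : X.Opens))) := by
    refine Eq.trans ?_ hnat
    show pullTop f g = ((Scheme.Modules.pullbackPushforwardAdjunction f).unit.app L).app ⊤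
      ((homOfGlobal L g).app ⊤ (one (⊤ : X.Opens)))
    rw [homOfGlobal_app]
    erw [H10Coh.mres_self, one_smul]
    rfl
  have hgen : IsGen _ (pullTop f g) :=
    e ▸ isGen_map_iso (asIso ((Scheme.Modules.pullback f).map (homOfGlobal L g))) (IsGen.pullSect f (isGen_one ⊤))
  have hy : y ∈ gen _ (pullTop f g) :=
    mem_gen_of_isGen (g := pullTop f g) (W := ⊤) (by rw [H10Coh.mres_self]; exact hgen) trivial
  have hgs := gen_smul_pullSect f hL g (c := 1) isUnit_one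
  rw [one_smul] at hgs
  exact hgs.le hy

/-- The trivialising condition in terms of loci of generation. -/
theorem exists_isIso_iff (f : Y ⟶ X) {L : X.Modules} (hL : PicF.IsInvertible L) :
    (∃ ε : Coh.structureModule X ⟶ L, IsIso ((Scheme.Modules.pullback f).map ε)) ↔ TrivAlong f L := by
  refine ⟨fun ⟨ε, hε⟩ => ⟨SecTwist.val ε ⊤, fun y => mem_gen_of_isIso f hL _ ?_ y⟩,
    fun ⟨g, hg⟩ => ⟨_, H22Alg.ExtPowSES.isIso_pullback_map_homOfGlobal f g hg⟩⟩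
  have h : homOfGlobal L (SecTwist.val ε ⊤) = ε := by
    refine Scheme.Modules.hom_ext _ _ fun W => ?_
    ext r
    exact (H06Mod.app_unit ε W r).symm
  rw [h]
  exact hε

theorem TrivAlong.tensor {f : Y ⟶ X} {L M : X.Modules} (hL : PicF.IsInvertible L) (hM : PicF.IsInvertible M)
    (h₁ : TrivAlong f L) (h₂ : TrivAlong f M) : TrivAlong f (CohB1.tensorMod L M) := by
  obtain ⟨a, ha⟩ := h₁
  obtain ⟨b, hb⟩ := h₂
  exact ⟨tm a b, fun y => by rw [gen_tm hL hM]; exact ⟨ha y, hb y⟩⟩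

theorem TrivAlong.tensorPow {f : Y ⟶ X} {L : X.Modules} (hL : PicF.IsInvertible L) (h : TrivAlong f L) {n : ℕ}
    (hn : 0 < n) : TrivAlong f (CohB1.tensorPow L n) := by
  obtain ⟨a, ha⟩ := h
  exact ⟨spow a n, fun y => by rw [gen_spow hL a n hn]; exact ha y⟩

theorem TrivAlong.pullback {f : Y ⟶ Z} (p : Z ⟶ X) {k : Y ⟶ X} {L : X.Modules} (hL : PicF.IsInvertible L)
    (h : TrivAlong k L) (e : f ≫ p = k) : TrivAlong f ((Scheme.Modules.pullback p).obj L) := by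
  obtain ⟨a, ha⟩ := h
  refine ⟨pullTop p a, fun y => ?_⟩
  have hgs := gen_smul_pullSect p hL a (c := 1) isUnit_one
  rw [one_smul] at hgs
  rw [hgs]
  show p (f y) ∈ gen L a
  rw [← Scheme.Hom.comp_apply, e]
  exact ha y

theorem TrivAlong.iso {f : Y ⟶ X} {L M : X.Modules} (φ : L ≅ M) (h : TrivAlong f L) : TrivAlong f M := by
  obtain ⟨a, ha⟩ := h
  exact ⟨φ.hom.app ⊤ a, fun y => by rw [gen_iso φ.hom]; exact ha y⟩

/-- A blow-up of `X` relative to `f : Y ⟶ X`, as data. -/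
def IsYBlow {X₁ : Scheme.{u}} (f : Y ⟶ X) (f₁ : Y ⟶ X₁) (g₁ : X₁ ⟶ X) : Prop :=
  IsSchemeTheoreticallyDominant f₁ ∧ IsProper g₁ ∧ f₁ ≫ g₁ = f ∧
    ∃ (L : X₁.Modules) (ε : Coh.structureModule X₁ ⟶ L),
      RelAmple.IsRelAmple g₁ L ∧ IsIso ((Scheme.Modules.pullback f₁).map ε)

theorem isYBlow_iff {X₁ : Scheme.{u}} (f : Y ⟶ X) (f₁ : Y ⟶ X₁) (g₁ : X₁ ⟶ X) :
    IsYBlow f f₁ g₁ ↔ IsSchemeTheoreticallyDominant f₁ ∧ IsProper g₁ ∧ f₁ ≫ g₁ = f ∧
      ∃ L : X₁.Modules, RelAmple.IsRelAmple g₁ L ∧ TrivAlong f₁ L := by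
  refine and_congr Iff.rfl (and_congr Iff.rfl (and_congr Iff.rfl (exists_congr fun L => ?_)))
  exact ⟨fun ⟨ε, hL, hε⟩ => ⟨hL, (exists_isIso_iff f₁ (isInvertible_of_isRelAmple hL)).1 ⟨ε, hε⟩⟩,
    fun ⟨hL, h⟩ => by
      obtain ⟨ε, hε⟩ := (exists_isIso_iff f₁ (isInvertible_of_isRelAmple hL)).2 h
      exact ⟨ε, hL, hε⟩⟩

/-- Blow-ups relative to a morphism compose. -/
theorem isYBlow_comp [CompactSpace X] {f : Y ⟶ X} {X₁ X₂ : Scheme.{u}} {f₁ : Y ⟶ X₁} {g₁ : X₁ ⟶ X}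
    {f₂ : Y ⟶ X₂} {g₂ : X₂ ⟶ X₁} (h₁ : IsYBlow f f₁ g₁) (h₂ : IsYBlow f₁ f₂ g₂) :
    IsYBlow f f₂ (g₂ ≫ g₁) := by
  rw [isYBlow_iff] at h₁ h₂ ⊢
  obtain ⟨-, hg₁, hfg₁, K, hK, hKt⟩ := h₁
  obtain ⟨hd, hg₂, hfg₂, L, hL, hLt⟩ := h₂
  haveI := hg₁; haveI := hg₂
  obtain ⟨n, hn, h⟩ := isRelAmple_comp_tensor hL hK
  refine ⟨hd, inferInstance, by rw [← Category.assoc, hfg₂, hfg₁], _, h n le_rfl, ?_⟩
  have hKi := isInvertible_of_isRelAmple hK
  exact hLt.tensor (isInvertible_of_isRelAmple hL) (isInvertible_pullback g₂ (isInvertible_tensorPow hKi n))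
    ((hKt.tensorPow hKi hn).pullback g₂ (isInvertible_tensorPow hKi n) hfg₂)

/-- Two blow-ups relative to a morphism are dominated by a third. -/
theorem exists_isYBlow_two [CompactSpace X] [QuasiSeparatedSpace X] [CompactSpace Y] {f : Y ⟶ X}
    {X₁ X₂ : Scheme.{u}} {f₁ : Y ⟶ X₁} {g₁ : X₁ ⟶ X} {f₂ : Y ⟶ X₂} {g₂ : X₂ ⟶ X}
    (h₁ : IsYBlow f f₁ g₁) (h₂ : IsYBlow f f₂ g₂) :
    ∃ (X₃ : Scheme.{u}) (f₃ : Y ⟶ X₃) (g₃ : X₃ ⟶ X) (d₁ : X₃ ⟶ X₁) (d₂ : X₃ ⟶ X₂),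
      IsYBlow f f₃ g₃ ∧ f₃ ≫ d₁ = f₁ ∧ d₁ ≫ g₁ = g₃ ∧ f₃ ≫ d₂ = f₂ ∧ d₂ ≫ g₂ = g₃ := by
  rw [isYBlow_iff] at h₁ h₂
  obtain ⟨-, hg₁, hfg₁, L, hL, hLt⟩ := h₁
  obtain ⟨-, hg₂, hfg₂, K, hK, hKt⟩ := h₂
  haveI := hg₁; haveI := hg₂
  let γ : Y ⟶ Limits.pullback g₁ g₂ := pullback.lift f₁ f₂ (hfg₁.trans hfg₂.symm)
  haveI : QuasiSeparatedSpace ↥(Limits.pullback g₁ g₂) :=
    quasiSeparatedSpace_of_quasiSeparated (pullback.fst g₁ g₂ ≫ g₁)
  haveI : QuasiCompact γ := QuasiCompact.of_comp γ (terminal.from _)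
  haveI : IsSchemeTheoreticallyDominant γ.toImage := ⟨H17.ker_toImage γ⟩
  have hbc := isRelAmple_baseChange g₁ g₂ hL
  obtain ⟨n, hn, hM⟩ := isRelAmple_comp_tensor hbc hK
  have hM' := isRelAmple_pullback_of_isQuasiAffine
    (isQuasiAffineHom_of_isEmbedding γ.imageι γ.imageι.isClosedEmbedding.isEmbedding) (hM n le_rfl)
  let d₁ := γ.imageι ≫ pullback.fst g₁ g₂
  let d₂ := γ.imageι ≫ pullback.snd g₁ g₂
  have e₁ : γ.toImage ≫ d₁ = f₁ := by rw [← Category.assoc, γ.toImage_imageι]; exact pullback.lift_fst _ _ _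
  have e₂ : γ.toImage ≫ d₂ = f₂ := by rw [← Category.assoc, γ.toImage_imageι]; exact pullback.lift_snd _ _ _
  refine ⟨γ.image, γ.toImage, γ.imageι ≫ pullback.snd g₁ g₂ ≫ g₂, d₁, d₂, ?_, e₁, ?_, e₂, ?_⟩
  · rw [isYBlow_iff]
    refine ⟨inferInstance, inferInstance, by rw [← Category.assoc γ.imageι, ← Category.assoc γ.toImage, e₂, hfg₂],
      _, hM', ?_⟩
    have hLi := isInvertible_of_isRelAmple hL
    have hKi := isInvertible_of_isRelAmple hK
    have hA := isInvertible_pullback (pullback.fst g₁ g₂) hLi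
    have hB := isInvertible_pullback (pullback.snd g₁ g₂) (isInvertible_tensorPow hKi n)
    exact TrivAlong.pullback γ.imageι (isInvertible_tensor hA hB)
      ((hLt.pullback (pullback.fst g₁ g₂) hLi (pullback.lift_fst _ _ _)).tensor hA hB
        ((hKt.tensorPow hKi hn).pullback (pullback.snd g₁ g₂) (isInvertible_tensorPow hKi n) (pullback.lift_snd _ _ _)))
      γ.toImage_imageι
  · rw [Category.assoc, pullback.condition]
  · rw [Category.assoc]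

end Groth.Agent.H8YBlow
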