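import Groth.Agent.H7Lim.Approx.Consequences
import Groth.Agent.S7395
import Groth.Agent.S17885

/-!
# A morphism out of an affine scheme over the base factors through an affine scheme of finite type
-/

set_option autoImplicit false
set_option linter.style.haveILetI false
set_option backward.isDefEq.respectTransparency false

universe u

open AlgebraicGeometry CategoryTheory Limits TopologicalSpace

namespace Groth.Agent.H8YBlow

theorem exists_affine_ft_factor {X Y X' : Scheme.{u}} (f : Y ⟶ X) [CompactSpace X] [QuasiSeparatedSpace X]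
    [CompactSpace Y] [QuasiSeparatedSpace Y] [IsAffineHom f] (f' : Y ⟶ X') (g' : X' ⟶ X) [IsSeparated g']
    [LocallyOfFiniteType g'] [QuasiCompact g'] (hf' : f' ≫ g' = f) :
    ∃ (A : Scheme.{u}) (π : A ⟶ X) (a : Y ⟶ A) (h : A ⟶ X'), IsAffineHom π ∧ LocallyOfFiniteType π ∧
      a ≫ π = f ∧ a ≫ h = f' ∧ h ≫ g' = π := by
  obtain ⟨X'', q, j, hq, hqf, hqc, hj, hjq⟩ := S7395.result g'
  haveI := hq; haveI := hqf; haveI := hqc; haveI := hj
  obtain ⟨I, _, _, D, c, hc, hprop, ⟨e⟩⟩ := (S17885.result f).1 inferInstance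
  obtain ⟨hc'⟩ := H7Lim.Approx.nonempty_isLimit_forget hc
  haveI : ∀ i, IsAffineHom (D.obj i).hom := fun i => (hprop i).1
  haveI : ∀ {i k : Iᵒᵖ} (a : i ⟶ k), IsAffineHom ((D ⋙ Over.forget X).map a) := fun {i k} a => by
    haveI : IsAffineHom ((D.map a).left ≫ (D.obj k).hom) := by rw [Over.w (D.map a)]; infer_instance
    exact MorphismProperty.of_postcomp @IsAffineHom (D.map a).left (D.obj k).hom
      (show IsSeparated (D.obj k).hom from inferInstance) ‹_›
  haveI : ∀ i, CompactSpace ((D ⋙ Over.forget X).obj i) := fun i =>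
    QuasiCompact.compactSpace_of_compactSpace (D.obj i).hom
  haveI : ∀ i, QuasiSeparatedSpace ((D ⋙ Over.forget X).obj i) := fun i =>
    quasiSeparatedSpace_of_quasiSeparated (D.obj i).hom
  let e' : c.pt.left ⟶ Y := e.hom.left
  have he' : e' ≫ f = c.pt.hom := Over.w e.hom
  obtain ⟨i, g, hg₁, hg₂⟩ := Scheme.exists_π_app_comp_eq_of_locallyOfFinitePresentation
    (D ⋙ Over.forget X)
    { app := fun i => (D.obj i).hom
      naturality := fun i k a => by
        dsimp
        rw [Category.comp_id]
        exact Over.w (D.map a) }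
    q ((Over.forget X).mapCone c) hc'
    (e' ≫ f' ≫ j) (by
      ext i
      dsimp
      rw [Over.w (c.π.app i), Category.assoc, Category.assoc, hjq, hf', he']
      rfl)
  let a₀ : Y ⟶ (D.obj i).left := e.inv.left ≫ (c.π.app i).left
  have ha₀g : a₀ ≫ g = f' ≫ j := by
    have h1 : (c.π.app i).left ≫ g = e' ≫ f' ≫ j := hg₁
    show (e.inv.left ≫ (c.π.app i).left) ≫ g = _
    rw [Category.assoc, h1, ← Category.assoc, show e.inv.left ≫ e' = 𝟙 _ from
      congr($(e.inv_hom_id).left)]
    exact Category.id_comp _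
  have hg₂' : g ≫ q = (D.obj i).hom := hg₂
  have ha₀ : a₀ ≫ (D.obj i).hom = f := by
    rw [← hg₂', ← Category.assoc, ha₀g, Category.assoc, hjq, hf']
  haveI : IsClosedImmersion (pullback.fst g j) := MorphismProperty.pullback_fst _ _ hj
  haveI : LocallyOfFinitePresentation (D.obj i).hom := (hprop i).2
  refine ⟨pullback g j, pullback.fst g j ≫ (D.obj i).hom, pullback.lift a₀ f' ha₀g, pullback.snd g j,
    inferInstance, inferInstance, by rw [← Category.assoc, pullback.lift_fst, ha₀], pullback.lift_snd _ _ _, ?_⟩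
  rw [← hg₂', ← hjq, ← Category.assoc, ← pullback.condition, Category.assoc]

end Groth.Agent.H8YBlow
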