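import Groth.Agent.H8YBlow.Basic
import Groth.Agent.H8YBlow.FtFactor
import Groth.Agent.H8YBlow.AffClosure
import Groth.Agent.H8YBlow.Exceptional
import Groth.Agent.H8Props.AmpleBatch
import Groth.Agent.H7Flat.Flatten.Modif
import Groth.Agent.H7Flat.Flatten.Birat

/-!
# Every modification relative to a morphism is dominated by a blow-up
-/

set_option autoImplicit false
set_option linter.style.haveILetI false
set_option backward.isDefEq.respectTransparency false
set_option maxHeartbeats 1000000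

universe u

open AlgebraicGeometry CategoryTheory Limits TopologicalSpace Opposite
open Groth.Agent.H11Ample Groth.Agent.H11Tilde

namespace Groth.Agent.H8YBlow

/-- A generator over the locus of generation of a section extends after twisting. -/
theorem exists_gen_extend {Z : Scheme.{u}} [CompactSpace Z] [QuasiSeparatedSpace Z] {E M : Z.Modules}
    (hE : PicF.IsInvertible E) (hM : PicF.IsInvertible M) (t : Γ(M, ⊤)) {e : Γ(E, gen M t)} (he : IsGen E e) :
    ∃ N, ∀ n, N ≤ n → ∃ v : Γ(CohB1.tensorMod E (CohB1.tensorPow M n), ⊤), gen M t ≤ gen _ v := by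
  let t₁ : Γ(CohB1.tensorPow M 1, ⊤) := spow t 1
  have et₁ : gen (CohB1.tensorPow M 1) t₁ = gen M t := gen_spow hM t 1 one_pos
  let G := gen (CohB1.tensorPow M 1) t₁
  let eM : Γ(M, G) := M.presheaf.map (homOfLE (le_top : G ≤ ⊤)).op t
  have heM : IsGen M eM := by
    have := (isGen_gen (L := M) t).res et₁.le
    rwa [H10Coh.mres_mres] at this
  let eE : Γ(E, G) := E.presheaf.map (homOfLE et₁.le).op e
  have heE : IsGen E eE := he.res et₁.le
  obtain ⟨N, hN⟩ := exists_extend (F := E) hM (H28Mero.isQCoh_of_isInvertible hE) 1 0 t₁ (tm eE (spow eM 0))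
  refine ⟨N, fun n hn => ?_⟩
  obtain ⟨v, hv⟩ := hN n hn
  have hv' := hv G le_rfl eM eE 1 heM (H10Coh.mres_self _ _ _) (by rw [one_smul]; exact spow_res le_top t 1)
  rw [one_pow, one_smul] at hv'
  have hg : G ≤ gen _ v := fun z hz =>
    mem_gen_of_isGen (g := v) (W := G) (hv' ▸ isGen_tm heE (isGen_spow heM _)) hz
  have key : ∀ k, k = n → ∀ v : Γ(CohB1.tensorMod E (CohB1.tensorPow M k), ⊤), G ≤ gen _ v →
      ∃ w : Γ(CohB1.tensorMod E (CohB1.tensorPow M n), ⊤), gen M t ≤ gen _ w := by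
    rintro k rfl w hw
    exact ⟨w, et₁.ge.trans hw⟩
  exact key _ (by omega) v hg

/-- A proper morphism with a section over an open through which it is an isomorphism there. -/
theorem isIso_restrict_image {A P W : Scheme.{u}} (γ : A ⟶ W) (q : W ⟶ P) [IsSeparated q] (j : A ⟶ P)
    [IsOpenImmersion j] [QuasiCompact γ] [IsSchemeTheoreticallyDominant γ] (hγ : γ ≫ q = j) :
    IsIso (q ∣_ j.opensRange) := by
  let U := j.opensRange
  let V := q ⁻¹ᵁ U
  haveI : IsSchemeTheoreticallyDominant (γ ∣_ V) :=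
    IsSchemeTheoreticallyDominant.of_isPullback (isPullback_morphismRestrict γ V).flip
  have hj : IsIso ((γ ≫ q) ∣_ U) := by
    rw [hγ]
    haveI : Surjective (j ∣_ U) := ⟨fun z => by
      obtain ⟨a, ha⟩ := z.2
      refine ⟨⟨a, ?_⟩, U.ι.isOpenEmbedding.injective ?_⟩
      · show j a ∈ U
        exact ⟨a, rfl⟩
      · rw [← Scheme.Hom.comp_apply, morphismRestrict_ι]
        exact ha⟩
    exact (isIso_iff_isOpenImmersion_and_surjective (j ∣_ U)).mpr ⟨inferInstance, inferInstance⟩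
  rw [morphismRestrict_comp] at hj
  haveI := hj
  haveI : IsClosedImmersion ((γ ∣_ V) ≫ (q ∣_ U)) := inferInstance
  haveI : IsClosedImmersion (γ ∣_ V) := IsClosedImmersion.of_comp _ (q ∣_ U)
  haveI : IsIso (γ ∣_ V) := IsClosedImmersion.isIso_iff_ker_eq_bot.2 (Scheme.Hom.ker_eq_bot _)
  exact IsIso.of_isIso_comp_left (γ ∣_ V) (q ∣_ U)

theorem exists_isYBlow_dominating {X Y : Scheme.{u}} (f : Y ⟶ X)
    [CompactSpace X] [QuasiSeparatedSpace X] [CompactSpace Y] [QuasiSeparatedSpace Y] [IsAffineHom f]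
    {X' : Scheme.{u}} (f' : Y ⟶ X') (g' : X' ⟶ X) [IsProper g'] (hf' : f' ≫ g' = f) :
    ∃ (X₁ : Scheme.{u}) (f₁ : Y ⟶ X₁) (g₁ : X₁ ⟶ X) (d : X₁ ⟶ X'),
      IsYBlow f f₁ g₁ ∧ f₁ ≫ d = f' ∧ d ≫ g' = g₁ := by
  obtain ⟨A, π, a, h, hπ, hπf, haπ, hah, hhg⟩ := exists_affine_ft_factor f f' g' hf'
  haveI := hπ; haveI := hπf
  haveI : CompactSpace A := QuasiCompact.compactSpace_of_compactSpace π
  haveI : QuasiSeparatedSpace A := quasiSeparatedSpace_of_quasiSeparated π
  obtain ⟨P, p, j, K, σ, hj, hp, hjp, hK, hσ⟩ := exists_affine_closure π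
  haveI := hp; haveI := hj
  haveI : CompactSpace P := QuasiCompact.compactSpace_of_compactSpace p
  haveI : QuasiSeparatedSpace P := quasiSeparatedSpace_of_quasiSeparated p
  let γ : A ⟶ Limits.pullback p g' := pullback.lift j h (hjp.trans hhg.symm)
  haveI : QuasiSeparatedSpace ↥(Limits.pullback p g') :=
    quasiSeparatedSpace_of_quasiSeparated (pullback.fst p g' ≫ p)
  haveI : QuasiCompact γ := QuasiCompact.of_comp γ (terminal.from _)
  haveI : IsSchemeTheoreticallyDominant γ.toImage := ⟨H17.ker_toImage γ⟩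
  let q := γ.imageι ≫ pullback.fst p g'
  have hγq : γ.toImage ≫ q = j := by
    rw [← Category.assoc, γ.toImage_imageι]; exact pullback.lift_fst _ _ _
  have hγh : γ.toImage ≫ γ.imageι ≫ pullback.snd p g' = h := by
    rw [← Category.assoc, γ.toImage_imageι]; exact pullback.lift_snd _ _ _
  let U := j.opensRange
  haveI : IsIso (q ∣_ U) := isIso_restrict_image γ.toImage q j hγq
  have hUc : IsCompact (U : Set P) := by
    show IsCompact (Set.range j)
    exact isCompact_range j.continuous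
  obtain ⟨𝓘, B, b, hb, hadm, -, c, hc⟩ := H7Flat.Flatten.exists_iso_blowup q U hUc
  haveI : IsProper b := H11Proj.isProper_of_isProjective (H11Strict.BlowProj.isProjective (b := b) hadm.1 hb)
  haveI : CompactSpace B := QuasiCompact.compactSpace_of_compactSpace b
  haveI : QuasiSeparatedSpace B := quasiSeparatedSpace_of_quasiSeparated b
  haveI : IsIso (b ∣_ U) := H29Blow.isIso_morphismRestrict hb U
    (fun x hx hs => Set.disjoint_left.1 hadm.2 hs hx)
  have hE := H29Blow.isInvertible_of_isEffCartierIdeal _ hb.1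
  have hKi : PicF.IsInvertible K := isInvertible_of_isRelAmple hK
  let M := (Scheme.Modules.pullback b).obj K
  have hM : PicF.IsInvertible M := isInvertible_pullback b hKi
  let t : Γ(M, ⊤) := pullTop b σ
  have ht : gen M t = b ⁻¹ᵁ U := by
    have := gen_smul_pullSect b hKi σ (isUnit_one (M := Γ(B, ⊤)))
    rw [one_smul] at this
    rw [this, hσ]
  obtain ⟨e, he⟩ := exists_isGen_exceptional hb U hadm.2
  obtain ⟨n₀, hn₀, hamp⟩ := isRelAmple_comp_tensor (isRelAmple_exceptional hadm.1 hb) hK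
  obtain ⟨N, hN⟩ := exists_gen_extend hE hM t (he.res ht.le)
  let n := max n₀ N
  obtain ⟨v, hv⟩ := hN n (le_max_right _ _)
  obtain ⟨φ⟩ := exists_iso_pullback_tensorPow b hKi n
  -- the morphism to the blow-up
  let f₀ : Y ⟶ B := a ≫ j.isoOpensRange.hom ≫ inv (b ∣_ U) ≫ (b ⁻¹ᵁ U).ι
  have hf₀ : f₀ ≫ b = a ≫ j := by
    simp only [f₀, Category.assoc, ← morphismRestrict_ι, IsIso.inv_hom_id_assoc]
    exact congrArg (a ≫ ·) j.isoOpensRange_hom_ι
  have hf₀U : ∀ y, f₀ y ∈ b ⁻¹ᵁ U := fun y => by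
    show b (f₀ y) ∈ U
    rw [← Scheme.Hom.comp_apply, hf₀, Scheme.Hom.comp_apply]
    exact ⟨a y, rfl⟩
  have hf₀c : f₀ ≫ c = a ≫ γ.toImage := by
    refine H7Flat.Flatten.eq_of_mono_restrict q U _ _ ?_ ?_
    · rw [Category.assoc, hc, hf₀, Category.assoc, hγq]
    · rw [Category.assoc, hc]
      rintro _ ⟨y, rfl⟩
      rw [Scheme.Hom.comp_apply]
      exact hf₀U y
  let L := CohB1.tensorMod (H11Strict.BlowProj.O1 b 𝓘) ((Scheme.Modules.pullback b).obj (CohB1.tensorPow K n))
  have hLt : TrivAlong f₀ L :=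
    TrivAlong.iso (PicGrp.tensorModIso (Iso.refl _) φ.symm) ⟨v, fun y => hv (ht.ge (hf₀U y))⟩
  haveI : QuasiCompact f₀ := QuasiCompact.of_comp f₀ (terminal.from _)
  haveI : IsSchemeTheoreticallyDominant f₀.toImage := ⟨H17.ker_toImage f₀⟩
  have hL := hamp n (le_max_left _ _)
  have hLi : PicF.IsInvertible L := isInvertible_of_isRelAmple hL
  have hL' := isRelAmple_pullback_of_isQuasiAffine
    (isQuasiAffineHom_of_isEmbedding f₀.imageι f₀.imageι.isClosedEmbedding.isEmbedding) hL
  refine ⟨f₀.image, f₀.toImage, f₀.imageι ≫ b ≫ p, f₀.imageι ≫ c ≫ γ.imageι ≫ pullback.snd p g',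
    (isYBlow_iff _ _ _).2 ⟨inferInstance, inferInstance, ?_, _, hL',
      hLt.pullback f₀.imageι hLi f₀.toImage_imageι⟩, ?_, ?_⟩
  · rw [← Category.assoc, f₀.toImage_imageι, ← Category.assoc, hf₀, Category.assoc, hjp, haπ]
  · rw [← Category.assoc, f₀.toImage_imageι, ← Category.assoc, hf₀c, Category.assoc, hγh, hah]
  · simp only [Category.assoc]
    rw [← pullback.condition, ← Category.assoc γ.imageι, ← Category.assoc c]
    exact congrArg (fun z => f₀.imageι ≫ z ≫ p) hc

end Groth.Agent.H8YBlow
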