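import Groth.Agent.H17.Ample.OpenInProjective
import Groth.Agent.H11Sym.BundleUP2
import Groth.Agent.H11Sym.Emb
import Groth.Agent.H11Sym.VeryAmple

/-!
# Embedding sections coming from an open of the base; comparison of maps into a projective bundle
-/

set_option autoImplicit false
set_option linter.style.haveILetI false
set_option backward.isDefEq.respectTransparency false
set_option maxHeartbeats 1000000

noncomputable section

universe u

open CategoryTheory CategoryTheory.Limits AlgebraicGeometry Opposite TopologicalSpace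
open Groth.Agent.H11Tilde Groth.Agent.H11Ample Groth.Agent.H11Proj Groth.Agent.H11Sym

namespace Groth.Agent.H8YBlow

variable {X Y Z : Scheme.{u}}

/-- A module of sections surjective over the affine opens of `V` embeds, if some module over `V` does. -/
theorem emb_of_surjOn {V : Y.Opens} {g : X ⟶ V.toScheme} {L : X.Modules} {E' : V.toScheme.Modules}
    {u' : E' ⟶ (Scheme.Modules.pushforward g).obj L} (hu' : Emb u') {F : Y.Modules}
    (v : F ⟶ (Scheme.Modules.pushforward (g ≫ V.ι)).obj L)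
    (hv : ∀ U : Y.Opens, IsAffineOpen U → U ≤ V → ∀ s : Γ(L, (g ≫ V.ι) ⁻¹ᵁ U), ∃ m, uSec v m = s) :
    Emb v := fun x => by
  obtain ⟨a⟩ := hu' x
  let U' := V.ι ''ᵁ a.U
  have hU' : IsAffineOpen U' := a.hU.image_of_isOpenImmersion _
  have hpre : (g ≫ V.ι) ⁻¹ᵁ U' = g ⁻¹ᵁ a.U := by
    rw [Scheme.Hom.comp_preimage, Scheme.Hom.preimage_image_eq]
  obtain ⟨m', hm'⟩ := hv U' hU' (V.ι_image_le _) (resS L hpre.le (uSec u' a.m))
  have hg : (gMax v hU' m').V = (gMax u' a.hU a.m).V := by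
    show genAt L (uSec v m') = genAt L (uSec u' a.m)
    rw [hm', genAt_res]
    exact inf_eq_left.2 ((genAt_le _).trans hpre.ge)
  refine a.nonempty_transfer hU' m' hg.le (hg.symm ▸ X.basicOpen_le a.t) (fun r => ?_) fun c n hn => ?_
  · have e : resF hg.le (g.appLE a.U _ (gMax u' a.hU a.m).le r) =
        (g ≫ V.ι).appLE U' (gMax v hU' m').V (gMax v hU' m').le ((V.ι.appIso a.U).inv r) := by
      have h1 : (V.ι.appIso a.U).inv ≫ (g ≫ V.ι).appLE U' (gMax v hU' m').V (gMax v hU' m').le =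
          g.appLE a.U (gMax u' a.hU a.m).V (gMax u' a.hU a.m).le ≫ X.presheaf.map (homOfLE hg.le).op := by
        rw [← Scheme.Hom.appLE_comp_appLE g V.ι U' a.U (gMax v hU' m').V
          (V.ι.preimage_image_eq a.U).ge ((gMax v hU' m').le.trans hpre.le), ← Category.assoc,
          Scheme.Hom.appLE_map]
        rw [show (V.ι.appIso a.U).inv ≫ V.ι.appLE U' a.U (V.ι.preimage_image_eq a.U).ge = 𝟙 _ by
          rw [Scheme.Hom.appIso_inv_appLE]; simp; rfl]
        exact Category.id_comp _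
      exact (ConcreteCategory.congr_hom h1 r).symm
    rw [e]
    exact GenPt.base_mem_ratioRing _ _
  · obtain ⟨n', hn'⟩ := hv U' hU' (V.ι_image_le _) (resS L hpre.le (uSec u' n))
    refine GenPt.mem_ratioRing _ n' ?_
    have h := congrArg (resS L hg.le) hn
    rw [resS_smul] at h
    show resF hg.le c • resS L (gMax v hU' m').le (uSec v m') = resS L (gMax v hU' m').le (uSec v n')
    erw [hm', hn', resS_resS, resS_resS]
    rw [resS_resS, resS_resS] at h
    exact h

/-- Finitely generated submodules keep embeddings. -/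
theorem exists_ft_factor_emb {S : Scheme.{u}} [CompactSpace S] [QuasiSeparatedSpace S] {X : Scheme.{u}}
    {q : X ⟶ S} [LocallyOfFiniteType q] [QuasiCompact q] {L : X.Modules} {E : S.Modules}
    {u : E ⟶ (Scheme.Modules.pushforward q).obj L} (hE : Coh.IsQCoh E) (hu : Emb u) :
    ∃ (G : S.Modules) (i : G ⟶ E), Coh.IsQCoh G ∧ CohB1.IsFT G ∧ Emb (i ≫ u) := by
  classical
  haveI : CompactSpace X := QuasiCompact.compactSpace_of_compactSpace q
  let a := fun x : X => (hu x).some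
  obtain ⟨T, hT⟩ := CompactSpace.elim_nhds_subcover (fun x => (X.basicOpen (a x).t : Set X))
    (fun x => (X.basicOpen (a x).t).isOpen.mem_nhds (a x).mem)
  choose B hBt hB using fun x : X => H17.OpenInProj.exists_finset_embPt (a x)
  let l : List (Σ U : S.affineOpens, Γ(E, U.1)) :=
    T.toList.flatMap fun x => ⟨⟨(a x).U, (a x).hU⟩, (a x).m⟩ :: (B x).toList.map fun n => ⟨⟨(a x).U, (a x).hU⟩, n⟩
  obtain ⟨G, i, hGq, hGf, hmem⟩ := H17.OpenInProj.exists_ft_mem E hE l
  refine ⟨G, i, hGq, hGf, fun y => ?_⟩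
  obtain ⟨x, hxT, hy⟩ := Set.mem_iUnion₂.1 (hT.ge (Set.mem_univ y))
  refine H17.OpenInProj.nonempty_embPt_comp i (a x).hU (a x).m (B x) (a x).t (hBt x) hy (a x).aff (hB x) ?_
    fun n hn => ?_
  · exact hmem ⟨⟨(a x).U, (a x).hU⟩, (a x).m⟩ (List.mem_flatMap.2 ⟨x, Finset.mem_toList.2 hxT, List.mem_cons_self⟩)
  · exact hmem ⟨⟨(a x).U, (a x).hU⟩, n⟩ (List.mem_flatMap.2 ⟨x, Finset.mem_toList.2 hxT,
      List.mem_cons_of_mem _ (List.mem_map.2 ⟨n, Finset.mem_toList.2 hn, rfl⟩)⟩)

variable {P : Scheme.{u}} {E : Y.Modules} {𝒯 : RelProj.QCGrAlg Y} {j : E ⟶ 𝒯.toModule} {p : P ⟶ Y}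
  {chart : ∀ (U : Y.Opens) (hU : IsAffineOpen U), (((p ⁻¹ᵁ U : P.Opens) : Scheme.{u}) ≅ Proj (𝒯.deg U hU))}

/-- A morphism into a projective bundle composed with a morphism, on a generating open. -/
theorem ι_comp_eq_chartMor {q : X ⟶ Y} {L : X.Modules} {u : E ⟶ (Scheme.Modules.pushforward q).obj L}
    (hE : Coh.IsQCoh E) (hT : RelProj.IsGrSymAlg E 𝒯 j) {r : X ⟶ P}
    {k : Z ⟶ Y} {M : Z.Modules} (h : Z ⟶ X) (hk : h ≫ q = k) (ev : L ⟶ (Scheme.Modules.pushforward h).obj M)
    (v : E ⟶ (Scheme.Modules.pushforward k).obj M)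
    {U : Y.Opens} (hU : IsAffineOpen U) (m : Γ(E, U))
    (hv : ∀ n : Γ(E, U), uSec v n = resS M (by rw [← hk]; exact le_rfl) (ev.app (q ⁻¹ᵁ U) (uSec u n)))
    (hr : (gMax u hU m).V.ι ≫ r = (gMax u hU m).chartMor chart hE hT)
    (hle : (gMax v hU m).V ≤ h ⁻¹ᵁ (gMax u hU m).V) :
    (gMax v hU m).V.ι ≫ h ≫ r = (gMax v hU m).chartMor chart hE hT := by
  subst hk
  let g := gMax u hU m
  let g' := gMax v hU m
  have hr' := GenPt.le_preimage_dOpen (chart := chart) hE hT hr
  have hV : g'.V ≤ (h ≫ r) ⁻¹ᵁ dOpen (𝒯 := 𝒯) (j := j) (chart := chart) g.hU g.m :=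
    hle.trans (h.preimage_mono hr')
  rw [g'.chartMor_eq hE hT,
    H11Tilde.ι_comp_eq_fromSpec (h ≫ r) (isAffineOpen_dOpen (chart := chart) hT g.hU g.m) g'.V hV]
  refine congrArg (fun φ => g'.V.toSpecΓ ≫ Spec.map φ ≫ _) ?_
  let iso := (RelProj.emb p chart g.U g.hU).appIso
    (Proj.basicOpen (𝒯.deg g.U g.hU) (japp (B := 𝒯.toQCAlg) j g.U g.m))
  refine (cancel_epi iso.inv).1
    (H11Tilde.ringHom_ext_ratio (𝒯.deg g.U g.hU) (japp_mem hT g.hU g.m) fun l a ha => ?_)
  change (h ≫ r).appLE _ g'.V hV (kappa (chart := chart) g.hU g.m _) =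
    g'.evalHom (chart := chart) hE hT (kappa (chart := chart) g'.hU g'.m _)
  refine Eq.trans ?_ (g'.evalHom_kappa hE hT ha).symm
  rw [← Scheme.Hom.appLE_comp_appLE h r _ g.V g'.V hr' hle, ConcreteCategory.comp_apply]
  erw [GenPt.appLE_kappa hE hT hr ha]
  refine RingHom.congr_fun (g'.dehom_ext hE hT (h := (h.appLE g.V g'.V hle).hom.comp (g.dehom hE hT))
    (fun s => ?_) fun n => ?_) a
  · rw [RingHom.comp_apply]
    erw [g.dehom_str hE hT s]
    erw [← ConcreteCategory.comp_apply, Scheme.Hom.appLE_comp_appLE]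
    rfl
  · have e := congrArg (fun t => resS M hle (ev.app g.V t)) (g.dehom_smul hE hT n)
    have key : ∀ t : Γ(E, U), resS M hle (ev.app g.V (resS L g.le (uSec u t))) = resS M g'.le (uSec v t) := fun t => by
      erw [hv t, resS_resS]
      exact (congrArg (resS M hle) (app_map_apply ev g.le (uSec u t))).trans (H10Coh.mres_mres _ _ _ _)
    have hsm : ∀ (c : Γ(X, g.V)) (t : Γ((Scheme.Modules.pushforward h).obj M, g.V)),
        resS M hle (c • t) = h.appLE g.V g'.V hle c • resS M hle t := fun c t => by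
      show resS M hle (h.app g.V c • (show Γ(M, h ⁻¹ᵁ g.V) from t)) = _
      rw [resS_smul]
      rfl
    simp only at e
    erw [Scheme.Modules.Hom.app_smul, hsm, key, key] at e
    exact e

end Groth.Agent.H8YBlow
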