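import Groth.Agent.H8YBlow.Basic
import Groth.Agent.H8YBlow.ExtendEmb
import Groth.Agent.H8YBlow.AffClosure

/-!
# A blow-up relative to a morphism over an open extends
-/

set_option autoImplicit false
set_option linter.style.haveILetI false
set_option backward.isDefEq.respectTransparency false
set_option maxHeartbeats 2000000

noncomputable section

universe u

open CategoryTheory CategoryTheory.Limits AlgebraicGeometry Opposite TopologicalSpace
open Groth.Agent.H11Tilde Groth.Agent.H11Ample Groth.Agent.H11Proj Groth.Agent.H11Sym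

namespace Groth.Agent.H8YBlow

theorem exists_isYBlow_extending {X Y : Scheme.{u}} (f : Y ⟶ X)
    [CompactSpace X] [QuasiSeparatedSpace X] [CompactSpace Y] [QuasiSeparatedSpace Y] [IsAffineHom f]
    (V : X.Opens) (hV : IsCompact (V : Set X))
    {X'₁ : Scheme.{u}} (f'₁ : ↑(f ⁻¹ᵁ V) ⟶ X'₁) (g'₁ : X'₁ ⟶ ↑V) (h' : IsYBlow (f ∣_ V) f'₁ g'₁) :
    ∃ (X₁ : Scheme.{u}) (f₁ : Y ⟶ X₁) (g₁ : X₁ ⟶ X) (r : X'₁ ⟶ X₁),
      IsYBlow f f₁ g₁ ∧ IsOpenImmersion r ∧
      Set.range (fun x => r x) = (g₁ ⁻¹ᵁ V : Set X₁) ∧ r ≫ g₁ = g'₁ ≫ V.ι ∧ f'₁ ≫ r = (f ⁻¹ᵁ V).ι ≫ f₁ := by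
  classical
  rw [isYBlow_iff] at h'
  obtain ⟨hd, hg', hfg', L₀, hL₀, g₀, hg₀⟩ := h'
  haveI := hd; haveI := hg'
  haveI : CompactSpace V.toScheme := isCompact_iff_compactSpace.1 hV
  haveI : QuasiSeparatedSpace V.toScheme :=
    (isQuasiSeparated_iff_quasiSeparatedSpace _ V.2).mp (.of_quasiSeparatedSpace _)
  haveI : QuasiCompact V.ι := quasiCompact_of_compactSpace V.ι
  haveI : CompactSpace X'₁ := QuasiCompact.compactSpace_of_compactSpace g'₁
  haveI : QuasiSeparatedSpace X'₁ := quasiSeparatedSpace_of_quasiSeparated g'₁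
  let YV := (f ⁻¹ᵁ V).toScheme
  let ιY : YV ⟶ Y := (f ⁻¹ᵁ V).ι
  haveI : CompactSpace YV := QuasiCompact.compactSpace_of_compactSpace (f ∣_ V)
  haveI : QuasiSeparatedSpace YV := quasiSeparatedSpace_of_quasiSeparated (f ∣_ V)
  haveI : QuasiCompact f'₁ := QuasiCompact.of_comp f'₁ (terminal.from _)
  haveI : QuasiCompact ιY := quasiCompact_of_compactSpace ιY
  let q : X'₁ ⟶ X := g'₁ ≫ V.ι
  let k : YV ⟶ X := ιY ≫ f
  have hk : f'₁ ≫ q = k := by
    show f'₁ ≫ g'₁ ≫ V.ι = (f ⁻¹ᵁ V).ι ≫ f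
    rw [← Category.assoc, hfg', morphismRestrict_ι]
  -- a very ample power, with its trivialising section
  obtain ⟨d, hd₀⟩ := H17.OpenInProj.exists_isRelVeryAmple_pow hL₀
  let L := CohB1.tensorPow L₀ d
  have hL₀i : PicF.IsInvertible L₀ := isInvertible_of_isRelAmple hL₀
  have hLi : PicF.IsInvertible L := isInvertible_tensorPow hL₀i d
  obtain ⟨E', hE', u', hu'⟩ := isRelVeryAmple_iff.1 hd₀
  obtain ⟨g, hgL⟩ : TrivAlong f'₁ L := by
    rcases Nat.eq_zero_or_pos d with h0 | hpos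
    · subst h0
      exact ⟨one (⊤ : X'₁.Opens), fun y => mem_gen_of_isGen (g := (one (⊤ : X'₁.Opens) : Γ(L, ⊤))) (W := ⊤)
        (by rw [H10Coh.mres_self]; exact isGen_one ⊤) trivial⟩
    · exact TrivAlong.tensorPow hL₀i ⟨g₀, hg₀⟩ hpos
  let N := (Scheme.Modules.pullback f'₁).obj L
  let e : Γ(N, ⊤) := pullTop f'₁ g
  have he : IsGen N e := fun y hy => by
    have h := gen_smul_pullSect f'₁ hLi g (isUnit_one (M := Γ(YV, ⊤)))
    rw [one_smul] at h
    have h2 := isGen_gen e y (h.ge (hgL y))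
    rwa [TopCat.Presheaf.germ_res_apply] at h2
  haveI hφiso : IsIso (homOfGlobal N e) := isIso_homOfGlobal N e fun W => he.bijective le_top
  let ψ : N ⟶ Coh.structureModule YV := inv (homOfGlobal N e)
  have hψ : ψ.app ⊤ e = one (⊤ : YV.Opens) := by
    have h1 : (homOfGlobal N e).app ⊤ (one (⊤ : YV.Opens)) = e := by
      rw [homOfGlobal_app]
      erw [H10Coh.mres_self, one_smul]
    conv_lhs => rw [← h1]
    exact congr($(congrArg (fun φ : Coh.structureModule YV ⟶ Coh.structureModule YV => φ.app ⊤)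
      (IsIso.hom_inv_id (homOfGlobal N e))) (one (⊤ : YV.Opens)))
  let ev : L ⟶ (Scheme.Modules.pushforward f'₁).obj (Coh.structureModule YV) :=
    (Scheme.Modules.pullbackPushforwardAdjunction f'₁).unit.app L ≫ (Scheme.Modules.pushforward f'₁).map ψ
  let ev₁ : Coh.structureModule Y ⟶ (Scheme.Modules.pushforward ιY).obj (Coh.structureModule YV) :=
    homOfGlobal _ (one (ιY ⁻¹ᵁ ⊤ : YV.Opens))
  have hev : ev.app ⊤ g = one (⊤ : YV.Opens) := hψ
  have hev₁ : ∀ (W : Y.Opens) (s : Γ(Coh.structureModule Y, W)),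
      ev₁.app W s = ιY.app W (show Γ(Y, W) from s) := fun W s => by
    show ιY.app W (show Γ(Y, W) from s) * YV.presheaf.map _ 1 = _
    rw [map_one, mul_one]
  -- the module of compatible sections
  let E₁ := (Scheme.Modules.pushforward f).obj (Coh.structureModule Y)
  let E₂ := (Scheme.Modules.pushforward q).obj L
  let T := (Scheme.Modules.pushforward k).obj (Coh.structureModule YV)
  let α : E₁ ⟶ T := (Scheme.Modules.pushforward f).map ev₁ ≫ (Scheme.Modules.pushforwardComp ιY f).hom.app _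
  let β : E₂ ⟶ T := (Scheme.Modules.pushforward q).map ev ≫ (Scheme.Modules.pushforwardComp f'₁ q).hom.app _ ≫
    (Scheme.Modules.pushforwardCongr hk).hom.app _
  have hα : ∀ (U : X.Opens) (s : Γ(E₁, U)), α.app U s = ev₁.app (f ⁻¹ᵁ U) s := fun U s => rfl
  have hβ : ∀ (U : X.Opens) (s : Γ(E₂, U)), α.app U 0 = 0 ∧
      β.app U s = resS (Coh.structureModule YV) (by rw [← hk]; exact le_rfl) (ev.app (q ⁻¹ᵁ U) s) :=
    fun U s => ⟨map_zero _, rfl⟩
  haveI hOY : (Coh.structureModule Y).IsQuasicoherent := (H10Coh.isCoh_structureModule' Y).1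
  haveI hOV : (Coh.structureModule YV).IsQuasicoherent := (H10Coh.isCoh_structureModule' YV).1
  haveI hOX : (Coh.structureModule X).IsQuasicoherent := (H10Coh.isCoh_structureModule' X).1
  haveI hE₁ : E₁.IsQuasicoherent := H10Coh.isQuasicoherent_pushforward_of_isAffineHom f _
  haveI : L.IsQuasicoherent := H28Mero.isQCoh_of_isInvertible hLi
  haveI hE₂ : E₂.IsQuasicoherent := H10Coh.isQuasicoherent_pushforward q L
  haveI hT : T.IsQuasicoherent := H10Coh.isQuasicoherent_pushforward k _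
  haveI : (E₁ ⊞ E₂).IsQuasicoherent := H8Props.QCohExtend.isQuasicoherent_biprod E₁ E₂
  let δ : E₁ ⊞ E₂ ⟶ T := biprod.fst ≫ α - biprod.snd ≫ β
  let F := kernel δ
  have hF : Coh.IsQCoh F := H10Coh.isQuasicoherent_kernel δ
  let a : F ⟶ E₁ := kernel.ι δ ≫ biprod.fst
  let b : F ⟶ E₂ := kernel.ι δ ≫ biprod.snd
  have hab : a ≫ α = b ≫ β := by
    have h := kernel.condition δ
    rw [Preadditive.comp_sub, sub_eq_zero, ← Category.assoc, ← Category.assoc] at h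
    exact h
  have hsurj : ∀ U : X.Opens, IsAffineOpen U → U ≤ V → ∀ s : Γ(E₂, U), ∃ m, uSec b m = s := by
    intro U _ hUV s
    have hb : Function.Bijective (ιY.app (f ⁻¹ᵁ U)) := by
      haveI := Scheme.Hom.isIso_app ιY (f ⁻¹ᵁ U) (by
        rw [Scheme.Opens.opensRange_ι]; exact f.preimage_mono hUV)
      exact ConcreteCategory.bijective_of_isIso _
    obtain ⟨t, ht⟩ := hb.2 (β.app U s)
    let z : Γ(E₁ ⊞ E₂, U) := (biprod.inl : E₁ ⟶ E₁ ⊞ E₂).app U (show Γ(E₁, U) from t) +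
      (biprod.inr : E₂ ⟶ E₁ ⊞ E₂).app U s
    have hfst : (biprod.fst : E₁ ⊞ E₂ ⟶ E₁).app U z = (show Γ(E₁, U) from t) := by
      refine (map_add _ _ _).trans ?_
      rw [show (biprod.fst : E₁ ⊞ E₂ ⟶ E₁).app U ((biprod.inl : E₁ ⟶ E₁ ⊞ E₂).app U (show Γ(E₁, U) from t)) = t from
          congr($(congrArg (fun φ : E₁ ⟶ E₁ => φ.app U) (biprod.inl_fst (X := E₁) (Y := E₂))) (show Γ(E₁, U) from t)),
        show (biprod.fst : E₁ ⊞ E₂ ⟶ E₁).app U ((biprod.inr : E₂ ⟶ E₁ ⊞ E₂).app U s) = 0 from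
          congr($(congrArg (fun φ : E₂ ⟶ E₁ => φ.app U) (biprod.inr_fst (X := E₁) (Y := E₂))) s)]
      exact add_zero _
    have hsnd : (biprod.snd : E₁ ⊞ E₂ ⟶ E₂).app U z = s := by
      refine (map_add _ _ _).trans ?_
      rw [show (biprod.snd : E₁ ⊞ E₂ ⟶ E₂).app U ((biprod.inl : E₁ ⟶ E₁ ⊞ E₂).app U (show Γ(E₁, U) from t)) = 0 from
          congr($(congrArg (fun φ : E₁ ⟶ E₂ => φ.app U) (biprod.inl_snd (X := E₁) (Y := E₂))) (show Γ(E₁, U) from t)),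
        show (biprod.snd : E₁ ⊞ E₂ ⟶ E₂).app U ((biprod.inr : E₂ ⟶ E₁ ⊞ E₂).app U s) = s from
          congr($(congrArg (fun φ : E₂ ⟶ E₂ => φ.app U) (biprod.inr_snd (X := E₁) (Y := E₂))) s)]
      exact zero_add _
    have hz : δ.app U z = 0 := by
      show α.app U ((biprod.fst : E₁ ⊞ E₂ ⟶ E₁).app U z) - β.app U ((biprod.snd : E₁ ⊞ E₂ ⟶ E₂).app U z) = 0
      rw [hfst, hsnd, hα, hev₁, sub_eq_zero]
      exact ht
    obtain ⟨m, hm⟩ := H29Blow.exists_kernelι_app_eq δ U z hz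
    refine ⟨m, ?_⟩
    show (biprod.snd : E₁ ⊞ E₂ ⟶ E₂).app U ((kernel.ι δ).app U m) = s
    rw [hm, hsnd]
  have hb : Emb b := emb_of_surjOn hu' b hsurj
  haveI : LocallyOfFiniteType q := inferInstance
  obtain ⟨G₁, i₁, hG₁q, hG₁f, hG₁e⟩ := exists_ft_factor_emb hF hb
  -- the global section `(1, g)`
  let g₁ : Γ(E₁, ⊤) := one (f ⁻¹ᵁ ⊤ : Y.Opens)
  let g₂ : Γ(E₂, ⊤) := g
  have hg₁₂ : α.app ⊤ g₁ = β.app ⊤ g₂ := by
    rw [hα, hev₁, (hβ ⊤ g₂).2]
    show ιY.app (f ⁻¹ᵁ ⊤) 1 = YV.presheaf.map _ _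
    erw [hev]
    show ιY.app (f ⁻¹ᵁ ⊤) 1 = YV.presheaf.map _ 1
    rw [map_one, map_one]
  let hgl : Coh.structureModule X ⟶ F := kernel.lift δ (biprod.lift (homOfGlobal E₁ g₁) (homOfGlobal E₂ g₂)) (by
    rw [Preadditive.comp_sub, sub_eq_zero, biprod.lift_fst_assoc, biprod.lift_snd_assoc]
    refine Scheme.Modules.hom_ext _ _ fun W => ?_
    ext c
    show α.app W ((homOfGlobal E₁ g₁).app W c) = β.app W ((homOfGlobal E₂ g₂).app W c)
    rw [homOfGlobal_app, homOfGlobal_app, Scheme.Modules.Hom.app_smul, Scheme.Modules.Hom.app_smul, app_map_apply,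
      app_map_apply, hg₁₂])
  haveI : G₁.IsQuasicoherent := hG₁q
  let G := G₁ ⊞ Coh.structureModule X
  have hGq : Coh.IsQCoh G := H8Props.QCohExtend.isQuasicoherent_biprod _ _
  have hGf : CohB1.IsFT G := H17.OpenInProj.isFT_biprod hG₁f (H10Coh.isCoh_structureModule' X).2
  let i : G ⟶ F := biprod.desc i₁ hgl
  let u₁ : G ⟶ E₁ := i ≫ a
  let u₂ : G ⟶ E₂ := i ≫ b
  have hu₂ : Emb u₂ := by
    refine Emb.of_factor (biprod.inl : G₁ ⟶ G) ?_
    rw [show (biprod.inl : G₁ ⟶ G) ≫ u₂ = i₁ ≫ b by simp only [u₂, i, ← Category.assoc, biprod.inl_desc]]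
    exact hG₁e
  let v : G ⟶ T := u₁ ≫ α
  let m₀ : Γ(G, ⊤) := (biprod.inr : Coh.structureModule X ⟶ G).app ⊤ (one (⊤ : X.Opens))
  let mU : ∀ U : X.Opens, Γ(G, U) := fun U => G.presheaf.map (homOfLE (le_top : U ≤ ⊤)).op m₀
  have hgl₁ : u₁.app ⊤ m₀ = g₁ := by
    have h : (biprod.inr : Coh.structureModule X ⟶ G) ≫ u₁ = homOfGlobal E₁ g₁ := by
      simp only [u₁, i, hgl, a, biprod.inr_desc_assoc, kernel.lift_ι_assoc, biprod.lift_fst]
    refine (congr($(congrArg (fun φ : Coh.structureModule X ⟶ E₁ => φ.app ⊤) h) (one (⊤ : X.Opens)))).trans ?_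
    rw [homOfGlobal_app]
    erw [H10Coh.mres_self, one_smul]
  have hgl₂ : u₂.app ⊤ m₀ = g₂ := by
    have h : (biprod.inr : Coh.structureModule X ⟶ G) ≫ u₂ = homOfGlobal E₂ g₂ := by
      simp only [u₂, i, hgl, b, biprod.inr_desc_assoc, kernel.lift_ι_assoc, biprod.lift_snd]
    refine (congr($(congrArg (fun φ : Coh.structureModule X ⟶ E₂ => φ.app ⊤) h) (one (⊤ : X.Opens)))).trans ?_
    rw [homOfGlobal_app]
    erw [H10Coh.mres_self, one_smul]
  have hgen₁ : ∀ U : X.Opens, IsGen (Coh.structureModule Y) (uSec u₁ (mU U)) := fun U => by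
    rw [uSec_res u₁ le_top m₀]
    rw [show uSec u₁ m₀ = g₁ from hgl₁]
    exact (isGen_one (f ⁻¹ᵁ ⊤)).res _
  have hgmax₁ : ∀ {U : X.Opens} (hU : IsAffineOpen U), (gMax u₁ hU (mU U)).V = f ⁻¹ᵁ U := fun {U} hU =>
    genAt_one _ (hgen₁ U)
  have hgen₂ : ∀ (U : X.Opens), gen L g ⊓ q ⁻¹ᵁ U ≤ genAt L (uSec u₂ (mU U)) := fun U => by
    rw [uSec_res u₂ le_top m₀]
    rw [show uSec u₂ m₀ = g₂ from hgl₂]
    rw [genAt_res, ← genAt_eq_gen g]
  have hsp : Spans u₁ := fun y => by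
    obtain ⟨U, hU, hxU⟩ := H11Ample.exists_isAffineOpen_mem (f y)
    exact ⟨gMax u₁ hU (mU U), (hgmax₁ hU).ge hxU⟩
  obtain ⟨𝒯, jT, hT'⟩ := exists_isGrSymAlg G hGq
  obtain ⟨P, p, chart, hP⟩ := exists_isRelProj 𝒯
  obtain ⟨O1, lam, hO⟩ := exists_isRelTwist hP 1
  obtain ⟨r, hr, τ, hτ⟩ := exists_toBundle hGq hT' hP hO hsp
  obtain ⟨r₂, hr₂, τ₂, hτ₂⟩ := exists_toBundle hGq hT' hP hO hu₂.spans
  haveI : IsImmersion r₂ := isImmersion_of_emb hGq hT' hP hO hr₂ hτ₂ hu₂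
  have hcomp : ιY ≫ r = f'₁ ≫ r₂ := by
    choose W hW hxW using fun y : YV => H11Ample.exists_isAffineOpen_mem (k y)
    have hvm : ∀ U : X.Opens, IsGen (Coh.structureModule YV) (uSec v (mU U)) := fun U => by
      have h1 : uSec v (mU U) = ιY.app (f ⁻¹ᵁ U) (show Γ(Y, f ⁻¹ᵁ U) from uSec u₁ (mU U)) := hev₁ _ _
      rw [h1, uSec_res u₁ le_top m₀]
      rw [show uSec u₁ m₀ = g₁ from hgl₁]
      show IsGen (Coh.structureModule YV) (ιY.app (f ⁻¹ᵁ U) (Y.presheaf.map _ 1) : Γ(YV, k ⁻¹ᵁ U))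
      rw [map_one, map_one]
      exact isGen_one _
    have hgv : ∀ {U : X.Opens} (hU : IsAffineOpen U), (gMax v hU (mU U)).V = k ⁻¹ᵁ U := fun {U} hU =>
      genAt_one _ (hvm U)
    refine Scheme.Cover.hom_ext (YV.openCoverOfIsOpenCover (fun y => (gMax v (hW y) (mU (W y))).V)
      (top_le_iff.1 fun y _ => Opens.mem_iSup.2 ⟨y, (hgv (hW y)).ge (hxW y)⟩)) _ _ fun y => ?_
    let U := W y
    show (gMax v (hW y) (mU U)).V.ι ≫ ιY ≫ r = (gMax v (hW y) (mU U)).V.ι ≫ f'₁ ≫ r₂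
    rw [ι_comp_eq_chartMor hGq hT' (u := u₁) ιY rfl ev₁ v (hW y) (mU U) (fun n => (H10Coh.mres_self _ _ _).symm)
        (chartMor_of_match hGq hT' hP hO hr hτ _)
        (by rw [hgv (hW y), hgmax₁ (hW y)]; exact le_rfl),
      ι_comp_eq_chartMor hGq hT' (u := u₂) f'₁ hk ev v (hW y) (mU U)
        (fun n => (congr($(congrArg (fun φ : G ⟶ T => φ.app U) (show u₁ ≫ α = u₂ ≫ β by
          simp only [u₁, u₂, Category.assoc, hab])) n)).trans (hβ U _).2)
        (chartMor_of_match hGq hT' hP hO hr₂ hτ₂ _) (by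
          rw [hgv (hW y)]
          intro z hz
          refine hgen₂ U ⟨hgL z, ?_⟩
          show q (f'₁ z) ∈ U
          rw [← Scheme.Hom.comp_apply, hk]
          exact hz)]
  have hproj : RelProj.IsProjective p :=
    ⟨𝒯, P, p, chart, Iso.refl P, H11Sym.isGenDegOne hGq hT', H11Sym.isFTDeg_one hGq hGf hT', hP, Category.id_comp p⟩
  haveI : IsProper p := isProper_of_isProjective hproj
  have hO1 : PicF.IsInvertible O1 := isInvertible_twist_one hGq hT' hP hO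
  haveI : QuasiSeparatedSpace P := quasiSeparatedSpace_of_quasiSeparated p
  haveI : QuasiCompact r := QuasiCompact.of_comp r (terminal.from _)
  let ι := r.imageι
  let g₁' := ι ≫ p
  haveI : QuasiCompact g₁' := inferInstance
  haveI : IsSchemeTheoreticallyDominant r.toImage := ⟨H17.ker_toImage r⟩
  -- over `V`
  let PV := p ⁻¹ᵁ V
  let c : X'₁ ⟶ PV.toScheme := IsOpenImmersion.lift PV.ι r₂ (by
    rintro _ ⟨z, rfl⟩
    rw [Scheme.Opens.range_ι]
    show p (r₂ z) ∈ V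
    rw [← Scheme.Hom.comp_apply, hr₂, Scheme.Hom.comp_apply]
    exact (g'₁ z).2)
  have hc : c ≫ PV.ι = r₂ := IsOpenImmersion.lift_fac _ _ _
  have hcp : c ≫ (p ∣_ V) = g'₁ := by
    rw [← cancel_mono V.ι, Category.assoc, morphismRestrict_ι, ← Category.assoc, hc, hr₂]
  haveI : IsImmersion (c ≫ PV.ι) := by rw [hc]; infer_instance
  haveI : IsImmersion c := IsImmersion.of_comp c PV.ι
  haveI : IsProper (c ≫ (p ∣_ V)) := by rw [hcp]; infer_instance
  haveI : IsProper c := IsProper.of_comp c (p ∣_ V)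
  haveI : IsClosedImmersion c := (IsClosedImmersion.iff_isProper_and_mono c).2 ⟨inferInstance, inferInstance⟩
  let X₁ := r.image
  let U₁ : X₁.Opens := ι ⁻¹ᵁ PV
  have hpre : f ⁻¹ᵁ V = r.toImage ⁻¹ᵁ U₁ := by
    show f ⁻¹ᵁ V = r.toImage ⁻¹ᵁ ι ⁻¹ᵁ p ⁻¹ᵁ V
    rw [← Scheme.Hom.comp_preimage, r.toImage_imageι, ← Scheme.Hom.comp_preimage, hr]
  let t : YV ⟶ U₁.toScheme := (Y.isoOfEq hpre).hom ≫ (r.toImage ∣_ U₁)
  haveI : IsSchemeTheoreticallyDominant (r.toImage ∣_ U₁) :=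
    IsSchemeTheoreticallyDominant.of_isPullback (isPullback_morphismRestrict r.toImage U₁).flip
  have htι : t ≫ U₁.ι = ιY ≫ r.toImage := by
    show ((Y.isoOfEq hpre).hom ≫ (r.toImage ∣_ U₁)) ≫ U₁.ι = _
    rw [Category.assoc, morphismRestrict_ι, ← Category.assoc, Scheme.isoOfEq_hom_ι]
  have htc : t ≫ (ι ∣_ PV) = f'₁ ≫ c := by
    rw [← cancel_mono PV.ι, Category.assoc, morphismRestrict_ι, ← Category.assoc, htι, Category.assoc,
      r.toImage_imageι, Category.assoc, hc]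
    exact hcomp
  have hker : (ι ∣_ PV).ker = c.ker := by
    have h1 : (t ≫ (ι ∣_ PV)).ker = (ι ∣_ PV).ker := by
      rw [Scheme.Hom.ker_comp, Scheme.Hom.ker_eq_bot t, Scheme.IdealSheafData.map_bot]
    have h2 : (f'₁ ≫ c).ker = c.ker := by
      rw [Scheme.Hom.ker_comp, Scheme.Hom.ker_eq_bot f'₁, Scheme.IdealSheafData.map_bot]
    rw [← h1, htc, h2]
  let e₁ := IsClosedImmersion.lift (ι ∣_ PV) c hker.le
  have he₁ : e₁ ≫ (ι ∣_ PV) = c := IsClosedImmersion.lift_fac _ _ _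
  let e₂ := IsClosedImmersion.lift c (ι ∣_ PV) hker.ge
  have he₂ : e₂ ≫ c = (ι ∣_ PV) := IsClosedImmersion.lift_fac _ _ _
  haveI : IsIso e₁ := ⟨e₂, by rw [← cancel_mono c, Category.assoc, he₂, he₁, Category.id_comp],
    by rw [← cancel_mono (ι ∣_ PV), Category.assoc, he₁, he₂, Category.id_comp]⟩
  -- the ample module with its section
  obtain ⟨φ, hφ⟩ := exists_canon hGq hT' hP hO
  let σ : Γ(O1, ⊤) := φ.app ⊤ m₀
  have hσ : ∀ y, r.toImage y ∈ gen ((Scheme.Modules.pullback ι).obj O1) (pullTop ι σ) := fun y => by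
    have h := gen_smul_pullSect ι hO1 σ (isUnit_one (M := Γ(r.image, ⊤)))
    rw [one_smul] at h
    rw [h]
    show ι (r.toImage y) ∈ gen O1 σ
    rw [← Scheme.Hom.comp_apply, r.toImage_imageι]
    obtain ⟨U, hU, hxU⟩ := H11Ample.exists_isAffineOpen_mem (f y)
    have hy := (preimage_dOpen_of_match hGq hT' hP hO hr hτ hU (mU U)).ge ((hgmax₁ hU).ge hxU)
    have hy' : r y ∈ dOpen (𝒯 := 𝒯) (j := jT) (chart := chart) hU (mU U) := hy
    rw [← genAt_ks hGq hT' hO hU, ← hφ U hU] at hy'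
    have e : φ.app U (mU U) = resS O1 (p.preimage_mono le_top) σ := app_map_apply φ le_top m₀
    rw [e, genAt_res] at hy'
    rw [← genAt_eq_gen σ]
    exact hy'.1
  refine ⟨X₁, r.toImage, g₁', e₁ ≫ U₁.ι, (isYBlow_iff _ _ _).2 ⟨inferInstance, inferInstance, ?_,
    _, isRelAmple_pullback_of_isEmbedding hGq hT' hP hO ι rfl ι.isClosedEmbedding.isEmbedding, pullTop ι σ, hσ⟩,
    inferInstance, ?_, ?_, ?_⟩
  · show r.toImage ≫ ι ≫ p = f
    rw [← Category.assoc, r.toImage_imageι, hr]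
  · ext z
    constructor
    · rintro ⟨x, rfl⟩
      exact (e₁ x).2
    · intro hz
      obtain ⟨x, hx⟩ := e₁.surjective ⟨z, hz⟩
      refine ⟨x, ?_⟩
      show (e₁ ≫ U₁.ι) x = z
      rw [Scheme.Hom.comp_apply, hx]
      rfl
  · show (e₁ ≫ U₁.ι) ≫ ι ≫ p = g'₁ ≫ V.ι
    rw [← Category.assoc (e₁ ≫ U₁.ι), Category.assoc e₁, ← morphismRestrict_ι, ← Category.assoc e₁, he₁, hc, hr₂]
  · rw [← cancel_mono ι]
    simp only [Category.assoc]
    rw [← morphismRestrict_ι, ← Category.assoc e₁, he₁, hc, r.toImage_imageι]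
    exact hcomp.symm

end Groth.Agent.H8YBlow
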